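import Mathlib

/-! Algebraic functions on a geometrically integral variety are constant. -/

set_option autoImplicit false
universe u

open scoped TensorProduct
open CategoryTheory CategoryTheory.Limits AlgebraicGeometry

namespace Groth.Agent.Good38

theorem mem_range_of_isIntegral (k B : Type u) [Field k] [CommRing B] [Algebra k B]
    [IsDomain (AlgebraicClosure k ⊗[k] B)] (t : B) (ht : IsIntegral k t) :
    t ∈ Set.range (algebraMap k B) := by
  let kb := AlgebraicClosure k
  let L := Algebra.adjoin k ({t} : Set B)
  have : Module.Finite k L := Module.Finite.iff_fg.2 ht.fg_adjoin_singleton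
  let φ : kb ⊗[k] L →ₐ[k] kb ⊗[k] B := Algebra.TensorProduct.map (AlgHom.id k kb) L.val
  have hφ : Function.Injective φ := by
    have h := Module.Flat.lTensor_preserves_injective_linearMap (M := kb) L.val.toLinearMap Subtype.val_injective
    exact h
  have : IsDomain (kb ⊗[k] L) := Function.Injective.isDomain φ hφ
  have hbij : Function.Bijective (algebraMap kb (kb ⊗[k] L)) := IsAlgClosed.algebraMap_bijective_of_isIntegral
  have h1 : Module.finrank k L = 1 := by
    rw [← Module.finrank_baseChange (R := kb) (S := k) (M' := L),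
      ← (AlgEquiv.ofBijective (Algebra.ofId kb (kb ⊗[k] L)) hbij).toLinearEquiv.finrank_eq, Module.finrank_self]
  have : Nontrivial B := by
    by_contra h
    rw [not_nontrivial_iff_subsingleton] at h
    exact one_ne_zero (Subsingleton.elim (1 : kb ⊗[k] B) 0)
  have hbot := Subalgebra.eq_bot_of_finrank_one h1
  exact Algebra.mem_bot.1 (hbot ▸ Algebra.self_mem_adjoin_singleton k t)

/-- Algebraic functions on an affine open of a geometrically integral scheme are constant. -/
theorem mem_range_of_isIntegral_appLE {k : Type u} [Field k] {X : Scheme.{u}} (f : X ⟶ Spec (CommRingCat.of k))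
    [GeometricallyIntegral f] {V : X.Opens} (hV : IsAffineOpen V) (x : X) (hx : x ∈ V)
    (χ : CommRingCat.of k ⟶ Γ(X, V)) (hχ : Spec.map χ = hV.fromSpec ≫ f) (t : Γ(X, V))
    (ht : χ.hom.IsIntegralElem t) : t ∈ Set.range χ.hom := by
  letI : Algebra k Γ(X, V) := χ.hom.toAlgebra
  let kb := AlgebraicClosure k
  let y := Spec.map (CommRingCat.ofHom (algebraMap k kb))
  have : IsIntegral (pullback f y) := GeometricallyIntegral.geometrically_isIntegral _ _ _ (.of_hasPullback f y)
  let e : pullback y (Spec.map χ) ≅ Spec (CommRingCat.of (kb ⊗[k] Γ(X, V))) :=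
    pullbackSpecIso k kb Γ(X, V)
  let m : pullback hV.fromSpec (pullback.fst f y) ⟶ pullback f y := pullback.snd _ _
  let e' : pullback hV.fromSpec (pullback.fst f y) ≅ pullback y (Spec.map χ) :=
    pullbackRightPullbackFstIso f y hV.fromSpec ≪≫ pullback.congrHom hχ.symm rfl ≪≫ pullbackSymmetry _ _
  have : Nonempty ↥(pullback hV.fromSpec (pullback.fst f y)) := by
    obtain ⟨v, hv⟩ : x ∈ Set.range hV.fromSpec := by rw [hV.range_fromSpec]; exact hx
    exact ⟨((pullback.fst hV.fromSpec (pullback.fst f y)).surjective v).choose⟩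
  have : IsIntegral (pullback hV.fromSpec (pullback.fst f y)) := isIntegral_of_isOpenImmersion m
  have : IsIntegral (Spec (CommRingCat.of (kb ⊗[k] Γ(X, V)))) := by
    have : Nonempty ↥(Spec (CommRingCat.of (kb ⊗[k] Γ(X, V)))) := ⟨(e' ≪≫ e).hom.base (Classical.arbitrary _)⟩
    exact isIntegral_of_isOpenImmersion (e' ≪≫ e).inv
  have : IsDomain (kb ⊗[k] Γ(X, V)) := (affine_isIntegral_iff _).1 this
  exact mem_range_of_isIntegral k Γ(X, V) t ht

end Groth.Agent.Good38
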