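import Groth.Agent.NeronHD28.Torsion
import Groth.Agent.S18498
import Groth.Agent.S8118
import Groth.Prelude.Def_SGA7IX
import Mathlib

/-! Inertia acts trivially on prime-to-`p` torsion in the case of good reduction. -/

set_option autoImplicit false
universe u

open CategoryTheory CategoryTheory.Limits MonoidalCategory CartesianMonoidalCategory MonObj AlgebraicGeometry

namespace Groth.Agent.Good38

theorem isCommMonObj_of_generic (R K : Type u) [CommRing R] [IsDomain R] [Field K] [Algebra R K] [IsFractionRing R K]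
    (B : Over (Spec (CommRingCat.of R))) [GrpObj B] [Flat B.hom] [IsSeparated B.hom]
    [IsCommMonObj ((SGA7.genFib R K).obj B)] : IsCommMonObj B := by
  let F := SGA7.genFib R K
  let b := Spec.map (CommRingCat.ofHom (algebraMap R K))
  have hdom : IsDominant b := by
    constructor
    show DenseRange (PrimeSpectrum.comap (algebraMap R K))
    exact PrimeSpectrum.denseRange_comap_iff_ker_le_nilRadical _ |>.mpr (by
      rw [(RingHom.injective_iff_ker_eq_bot _).mp (IsFractionRing.injective R K)]; exact bot_le)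
  have : IsSchemeTheoreticallyDominant b := .of_isDominant _
  have : Flat (B ⊗ B).hom := inferInstanceAs (Flat (pullback.fst B.hom B.hom ≫ B.hom))
  refine ⟨?_⟩
  have h : F.map ((β_ B B).hom ≫ μ[B]) = F.map μ[B] := by
    have h : (β_ (F.obj B) (F.obj B)).hom ≫ μ[F.obj B] = μ[F.obj B] := IsCommMonObj.mul_comm _
    rw [Functor.obj.μ_def, ← Functor.LaxBraided.braided_assoc] at h
    rw [Functor.map_comp]
    exact (cancel_epi (Functor.LaxMonoidal.μ F B B)).1 h
  generalize (β_ B B).hom ≫ μ[B] = f at h ⊢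
  ext : 1
  refine Groth.Agent.H98.STDExt.ext_of_isSchemeTheoreticallyDominant B.hom (by rw [Over.w, Over.w])
    (pullback.fst (B ⊗ B).hom b) ?_
  have h' := congrArg (fun m => CommaMorphism.left m ≫ pullback.fst B.hom b) h
  simp [F, SGA7.genFib] at h'
  erw [pullback.lift_fst, pullback.lift_fst] at h'
  exact h'

variable {R K Ω : Type u} [CommRing R] [IsDomain R] [IsDiscreteValuationRing R] [Field K]
  [Algebra R K] [IsFractionRing R K] [Field Ω] [Algebra K Ω] (W : ValuationSubring Ω)

theorem galAct_torsion_eq (hW : SGA7.LiesOver K R W) (B : Over (Spec (CommRingCat.of R))) [GrpObj B]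
    [IsCommMonObj B] [Smooth B.hom] [IsProper B.hom] (N : ℕ) (hN : IsUnit (N : R))
    (σ : Ω ≃ₐ[K] Ω) (hσ : SGA7.IsInertia W σ) (y : SGA7.pt Ω ⟶ (SGA7.genFib R K).obj B) (hy : y ^ N = 1) :
    SGA7.galAct σ y = y := by
  let b := Spec.map (CommRingCat.ofHom (algebraMap R K))
  let ιW : R →+* W := ((algebraMap K Ω).comp (algebraMap R K)).codRestrict W.toSubring hW.1
  let wR : Spec (CommRingCat.of W) ⟶ Spec (CommRingCat.of R) := Spec.map (CommRingCat.ofHom ιW)
  let j : Spec (CommRingCat.of Ω) ⟶ Spec (CommRingCat.of W) := Spec.map (CommRingCat.ofHom (algebraMap W Ω))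
  let yh : Spec (CommRingCat.of Ω) ⟶ B.left := y.left ≫ pullback.fst B.hom b
  have hyh : yh ≫ B.hom = j ≫ wR := by
    have hw : y.left ≫ pullback.snd B.hom b = Spec.map (CommRingCat.ofHom (algebraMap K Ω)) := Over.w y
    simp only [yh, Category.assoc, pullback.condition]
    rw [← Category.assoc, hw]
    simp only [b, j, wR, ← Spec.map_comp, ← CommRingCat.ofHom_comp]
    rfl
  let Sq : ValuativeCommSq B.hom :=
    { R := W, K := Ω, i₁ := yh, i₂ := wR, commSq := ⟨hyh⟩ }
  have hex : ValuativeCriterion.Existence B.hom := by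
    have h : (@UniversallyClosed : MorphismProperty Scheme.{u}) B.hom := inferInstance
    rw [UniversallyClosed.eq_valuativeCriterion] at h
    exact h.1
  obtain ⟨⟨g, hg1, hg2⟩⟩ := hex Sq
  have hg1' : j ≫ g = yh := hg1
  have hg2' : g ≫ B.hom = wR := hg2
  -- uniqueness of extensions
  have huniq : ∀ a a' : Spec (CommRingCat.of W) ⟶ B.left, a ≫ B.hom = wR → a' ≫ B.hom = wR →
      j ≫ a = j ≫ a' → a = a' := by
    intro a a' ha ha' hj
    let S' : ValuativeCommSq B.hom :=
      { R := W, K := Ω, i₁ := j ≫ a, i₂ := wR, commSq := ⟨by rw [Category.assoc, ha]⟩ }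
    exact congrArg CommSq.LiftStruct.l ((IsSeparated.valuativeCriterion B.hom S').elim ⟨a, rfl, ha⟩ ⟨a', hj.symm, ha'⟩)
  -- torsion
  let pw : B ⟶ B := (𝟙 B : B ⟶ B) ^ N
  let f := pw.left
  let e : Spec (CommRingCat.of R) ⟶ B.left := (η[B]).left
  have : Etale f := NeronHD28.etale_pow B N (NeronHD28.natCast_residueField_ne_zero N hN)
  have hgf : g ≫ f = wR ≫ e := by
    refine huniq _ _ (by rw [Category.assoc, Over.w pw, hg2']) (by
      rw [Category.assoc, Over.w (η[B])]; exact Category.comp_id _) ?_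
    rw [← Category.assoc, hg1']
    have h1 : y ≫ (SGA7.genFib R K).map pw = 1 := by
      have h2 : (SGA7.genFib R K).map pw = (𝟙 ((SGA7.genFib R K).obj B) : _ ⟶ _) ^ N := by
        have := map_pow ((SGA7.genFib R K).homMonoidHom (X := B) (M := B)) (𝟙 B) N
        exact this.trans (congrArg (fun m : (SGA7.genFib R K).obj B ⟶ (SGA7.genFib R K).obj B => m ^ N)
          ((SGA7.genFib R K).map_id B))
      rw [h2, MonObj.comp_pow, Category.comp_id, hy]
    have h3 : (SGA7.genFib R K).map (1 : B ⟶ B) = 1 := Functor.map_one _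
    have h4 : y ≫ (SGA7.genFib R K).map pw = y ≫ (SGA7.genFib R K).map (1 : B ⟶ B) := by
      rw [h1, h3, MonObj.comp_one]
    have h5 := congrArg (fun m => CommaMorphism.left m ≫ pullback.fst B.hom b) h4
    simp only [Over.comp_left, Category.assoc] at h5
    have hm : ∀ q : B ⟶ B, ((SGA7.genFib R K).map q).left ≫ pullback.fst B.hom b = pullback.fst B.hom b ≫ q.left :=
      fun q => pullback.lift_fst _ _ _
    rw [hm, hm, NeronHD28.one_left, ← Category.assoc y.left, ← Category.assoc y.left] at h5
    rw [h5]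
    show yh ≫ B.hom ≫ e = j ≫ wR ≫ e
    rw [← Category.assoc, hyh, Category.assoc]
  let σW : W →+* W := ((σ : Ω →+* Ω).comp W.subtype).codRestrict W.toSubring fun a => (hσ a.1 a.2).1
  let sW : Spec (CommRingCat.of W) ⟶ Spec (CommRingCat.of W) := Spec.map (CommRingCat.ofHom σW)
  have hsR : sW ≫ wR = wR := by
    simp only [sW, wR, ← Spec.map_comp, ← CommRingCat.ofHom_comp]
    congr 2
    ext r
    exact σ.commutes _
  have hsk : NeronHD28.closedPt W ≫ sW = NeronHD28.closedPt W := by
    simp only [sW, NeronHD28.closedPt, ← Spec.map_comp, ← CommRingCat.ofHom_comp]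
    congr 2
    ext a
    refine (Ideal.Quotient.mk_eq_mk_iff_sub_mem _ _).2 ?_
    rw [ValuationSubring.valuation_lt_one_iff]
    exact (hσ a.1 a.2).2
  let p : pullback f e ⟶ Spec (CommRingCat.of R) := pullback.snd f e
  have : Etale p := inferInstanceAs (Etale (pullback.snd f e))
  let T : pullback p wR ⟶ Spec (CommRingCat.of W) := pullback.snd p wR
  have : Etale T := inferInstanceAs (Etale (pullback.snd p wR))
  let G1 : Spec (CommRingCat.of W) ⟶ pullback f e := pullback.lift g wR hgf
  let G2 : Spec (CommRingCat.of W) ⟶ pullback f e := sW ≫ G1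
  have hG1 : G1 ≫ p = wR := pullback.lift_snd _ _ _
  have hG2 : G2 ≫ p = wR := by simp only [G2, Category.assoc, hG1, hsR]
  have key := NeronHD28.section_unique_of_unramified T
    (pullback.lift G1 (𝟙 _) (hG1.trans (Category.id_comp _).symm))
    (pullback.lift G2 (𝟙 _) (hG2.trans (Category.id_comp _).symm))
    (pullback.lift_snd _ _ _) (pullback.lift_snd _ _ _) (by
      apply pullback.hom_ext
      · simp only [Category.assoc, pullback.lift_fst, G2]
        rw [← Category.assoc (NeronHD28.closedPt W) sW, hsk]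
      · simp only [Category.assoc, pullback.lift_snd])
  have hkey : g = sW ≫ g := by
    have e1 := congrArg (fun m => m ≫ pullback.fst p wR) key
    simp only [pullback.lift_fst] at e1
    have e2 := congrArg (fun m => m ≫ pullback.fst f e) e1
    simp only [G2, Category.assoc] at e2
    rwa [show G1 ≫ pullback.fst f e = g from pullback.lift_fst _ _ _] at e2
  -- conclude on the generic fibre
  refine Over.OverMorphism.ext (pullback.hom_ext ?_ ?_)
  · show (Spec.map (CommRingCat.ofHom (σ : Ω →+* Ω)) ≫ y.left) ≫ pullback.fst B.hom b = yh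
    rw [Category.assoc]
    show Spec.map (CommRingCat.ofHom (σ : Ω →+* Ω)) ≫ yh = yh
    rw [← hg1']
    conv_rhs => rw [hkey]
    simp only [← Category.assoc]
    congr 1
    simp only [j, sW, ← Spec.map_comp, ← CommRingCat.ofHom_comp]
    congr 2
  · exact (Over.w (SGA7.galAct σ y)).trans (Over.w y).symm

/-- A morphism of abelian varieties preserving the units is a homomorphism. -/
theorem isMonHom_of_one (A B : Over (Spec (CommRingCat.of K))) [GrpObj A] [IsProper A.hom]
    [GeometricallyIntegral A.hom] [GrpObj B] [IsProper B.hom] [GeometricallyIntegral B.hom]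
    (f : A ⟶ B) (hf : η[A] ≫ f = η[B]) : IsMonHom f := by
  refine ⟨hf, ?_⟩
  have h0 : lift η[A] η[A] ≫ μ[A] ≫ f = η[B] := by
    rw [← Category.assoc, ← Hom.mul_def, MonObj.one_eq_one, _root_.one_mul, ← MonObj.one_eq_one, hf]
  obtain ⟨h, -⟩ := S8118.result K A A B η[A] η[A] (μ[A] ≫ f) h0
  have h1 : lift (𝟙 A) (toUnit A ≫ η[A]) ≫ μ[A] = 𝟙 A := by
    rw [← Hom.mul_def, ← Hom.one_def, _root_.mul_one]
  have h2 : lift (toUnit A ≫ η[A]) (𝟙 A) ≫ μ[A] = 𝟙 A := by
    rw [← Hom.mul_def, ← Hom.one_def, _root_.one_mul]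
  rw [← Category.assoc (lift _ _), h1, ← Category.assoc (lift _ _), h2, Category.id_comp] at h
  rw [h, Hom.mul_def]
  congr 1

end Groth.Agent.Good38
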