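import Groth.Agent.Mono38.Inertia
import Mathlib

/-! Over a henselian discrete valuation ring the inertia groups surject on the finite levels. -/

set_option autoImplicit false
universe u

open IsLocalRing
open scoped Pointwise

namespace Groth.Agent.Good38

variable {R K Ω : Type u} [CommRing R] [IsDomain R] [IsDiscreteValuationRing R] [HenselianLocalRing R]
  [Field K] [Algebra R K] [IsFractionRing R K] [Field Ω] [Algebra K Ω] [Algebra R Ω] [IsScalarTower R K Ω]
  [IsGalois K Ω] (W : ValuationSubring Ω)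

theorem exists_inertia_lift (hW : SGA7.LiesOver K R W) (L : IntermediateField K Ω) (σ₀ : Ω ≃ₐ[K] Ω)
    (h₀ : ∀ z ∈ L, z ∈ W → W.valuation (σ₀ z - z) < 1) :
    ∃ σ : Ω ≃ₐ[K] Ω, SGA7.IsInertia W σ ∧ ∀ z ∈ L, σ z = σ₀ z := by
  have hs : Mono38.Stable K W := Mono38.stable_of_henselian (R := R) W hW
  have hint : ∀ z, z ∈ W ↔ IsIntegral R z := Mono38.mem_iff_isIntegral W hW
  let G := Ω ≃ₐ[L] Ω
  have : SMulCommClass G R Ω := ⟨fun g r z => by
    show g (r • z) = r • g z
    rw [Algebra.smul_def, Algebra.smul_def, map_mul, IsScalarTower.algebraMap_apply R K Ω,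
      IsScalarTower.algebraMap_apply K L Ω, AlgEquiv.commutes]⟩
  let S := integralClosure R Ω
  let A : Subalgebra R S := FixedPoints.subalgebra R S G
  let i : S →+* W := S.val.toRingHom.codRestrict W.toSubring fun z => (hint _).2 z.2
  let Q : Ideal S := (maximalIdeal W).comap i
  have hQ : ∀ z : S, z ∈ Q ↔ W.valuation (z : Ω) < 1 := fun z => by
    show i z ∈ maximalIdeal W ↔ _
    rw [ValuationSubring.valuation_lt_one_iff]
    rfl
  have hQp : Q.IsPrime := Ideal.IsPrime.comap i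
  let P : Ideal A := Q.under A
  have : Q.LiesOver P := ⟨rfl⟩
  have : Algebra.IsInvariant A S G := ⟨fun b hb => ⟨⟨b, hb⟩, rfl⟩⟩
  have : SMulCommClass G A S := ⟨fun g a z => by
    show g • ((a : S) * z) = (a : S) * (g • z)
    rw [smul_mul', a.2 g]⟩
  letI : TopologicalSpace S := ⊥
  haveI : DiscreteTopology S := ⟨rfl⟩
  have : IsGalois L Ω := IsGalois.tower_top_of_isGalois K L Ω
  have : ContinuousSMul G S := continuousSMul_iff_stabilizer_isOpen.2 fun z => by
    have : (MulAction.stabilizer G z : Set G) = MulAction.stabilizer G (z : Ω) := Set.ext fun g =>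
      show g • z = z ↔ g • (z : Ω) = (z : Ω) from ⟨fun h => congrArg Subtype.val h, fun h => Subtype.ext h⟩
    rw [this]
    exact stabilizer_isOpen_of_isIntegral _
  -- the automorphism of `S`
  let f : S ≃ₐ[R] S :=
    AlgEquiv.ofAlgHom ((σ₀.toAlgHom.restrictScalars R).mapIntegralClosure)
      ((σ₀.symm.toAlgHom.restrictScalars R).mapIntegralClosure)
      (AlgHom.ext fun z => Subtype.ext (σ₀.apply_symm_apply _)) (AlgHom.ext fun z => Subtype.ext (σ₀.symm_apply_apply _))
  have hf : ∀ z : S, (f z : Ω) = σ₀ z := fun _ => rfl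
  have hfQ : Q = Q.map (f.toRingEquiv : S →+* S) := by
    refine (le_antisymm (fun z hz => ?_) ?_)
    · obtain ⟨w, rfl⟩ := f.surjective z
      refine Ideal.mem_map_of_mem _ ?_
      rw [hQ, hf, Mono38.val_eq hs] at hz
      exact (hQ w).2 hz
    · refine Ideal.map_le_iff_le_comap.2 fun w hw => ?_
      rw [Ideal.mem_comap, hQ]
      show W.valuation (σ₀ (w : Ω)) < 1
      rw [Mono38.val_eq hs]
      exact (hQ w).1 hw
  let e : (S ⧸ Q) ≃+* (S ⧸ Q) := Ideal.quotientEquiv Q Q f.toRingEquiv hfQ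
  let eA : (S ⧸ Q) ≃ₐ[A ⧸ P] (S ⧸ Q) := AlgEquiv.ofRingEquiv (f := e) fun a => by
    obtain ⟨a, rfl⟩ := Ideal.Quotient.mk_surjective a
    refine (Ideal.Quotient.mk_eq_mk_iff_sub_mem _ _).2 ((hQ _).2 ?_)
    show W.valuation (σ₀ ((a : S) : Ω) - ((a : S) : Ω)) < 1
    refine h₀ _ ?_ ((hint _).2 (a : S).2)
    obtain ⟨l, hl⟩ := (InfiniteGalois.mem_range_algebraMap_iff_fixed (k := L) ((a : S) : Ω)).2
      fun g => congrArg Subtype.val (a.2 g)
    exact hl ▸ l.2
  obtain ⟨⟨γ, hγQ⟩, hγ⟩ := Ideal.Quotient.stabilizerHom_surjective_of_profinite (G := G) P Q eA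
  have key : ∀ z : S, W.valuation (γ (z : Ω) - σ₀ z) < 1 := fun z => by
    have h : Ideal.Quotient.mk Q (γ • z) = Ideal.Quotient.mk Q (f z) :=
      DFunLike.congr_fun hγ (Ideal.Quotient.mk Q z)
    rw [Ideal.Quotient.mk_eq_mk_iff_sub_mem, hQ] at h
    exact h
  refine ⟨σ₀ * ((γ : G).restrictScalars K).symm, fun z hz => ⟨hs _ z hz, ?_⟩, fun z hz => ?_⟩
  · have hw : IsIntegral R (γ.symm z) := (hint _).1 (hs (γ.restrictScalars K).symm z hz)
    have := key ⟨_, hw⟩
    rw [show γ (γ.symm z) = z from γ.apply_symm_apply z, W.valuation.map_sub_swap] at this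
    exact this
  · show σ₀ (γ.symm z) = σ₀ z
    rw [show γ.symm z = z from γ.symm.commutes ⟨z, hz⟩]

end Groth.Agent.Good38
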