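import Groth.Prelude.Def_Neron
import Mathlib

/-! A Néron model of a group scheme is a group scheme. -/

set_option autoImplicit false
universe u

open CategoryTheory CategoryTheory.Limits MonoidalCategory CartesianMonoidalCategory MonObj AlgebraicGeometry

namespace Groth.Agent.Good38

theorem exists_grpObj_of_neron (R : Type u) [CommRing R] [IsDomain R]
    (A : Over (Spec (CommRingCat.of (FractionRing R)))) [GrpObj A]
    (N : Over (Spec (CommRingCat.of R))) (e : (Neron.genericFibre R).obj N ≅ A)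
    (hN : Neron.IsNeronModelOf R N A e) : Nonempty (GrpObj N) := by
  let F := Neron.genericFibre R
  have hs : Smooth N.hom := hN.1
  have hbij := hN.2.2.2.2
  let Φ : ∀ {Y : Over (Spec (CommRingCat.of R))}, (Y ⟶ N) → (F.obj Y ⟶ A) := fun g => F.map g ≫ e.hom
  have hnat : ∀ {Y Y' : Over (Spec (CommRingCat.of R))} (h : Y' ⟶ Y) (g : Y ⟶ N), Φ (h ≫ g) = F.map h ≫ Φ g :=
    fun h g => by simp only [Φ, Functor.map_comp, Category.assoc]
  have h1 : Smooth (𝟙_ (Over (Spec (CommRingCat.of R)))).hom := inferInstanceAs (Smooth (𝟙 _))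
  have h2 : ∀ (X Y : Over (Spec (CommRingCat.of R))), Smooth X.hom → Smooth Y.hom → Smooth (X ⊗ Y).hom :=
    fun X Y _ _ => inferInstanceAs (Smooth (pullback.fst X.hom Y.hom ≫ X.hom))
  obtain ⟨one, hone⟩ := (hbij _ h1).2 (1 : F.obj (𝟙_ _) ⟶ A)
  obtain ⟨mul, hmul⟩ := (hbij _ (h2 N N hs hs)).2 (Φ (fst N N) * Φ (snd N N))
  obtain ⟨inv, hinv⟩ := (hbij N hs).2 (Φ (𝟙 N))⁻¹
  change Φ one = _ at hone
  change Φ mul = _ at hmul
  change Φ inv = _ at hinv
  have hm : ∀ {Y : Over (Spec (CommRingCat.of R))} (h : Y ⟶ N ⊗ N),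
      Φ (h ≫ mul) = Φ (h ≫ fst N N) * Φ (h ≫ snd N N) := fun h => by
    rw [hnat, hmul, MonObj.comp_mul, ← hnat, ← hnat]
  have ho : ∀ {Y : Over (Spec (CommRingCat.of R))} (h : Y ⟶ 𝟙_ _), Φ (h ≫ one) = 1 := fun h => by
    rw [hnat, hone, MonObj.comp_one]
  have hi : ∀ {Y : Over (Spec (CommRingCat.of R))} (h : Y ⟶ N), Φ (h ≫ inv) = (Φ h)⁻¹ := fun h => by
    rw [hnat, hinv, GrpObj.comp_inv, ← hnat, Category.comp_id]
  exact ⟨{
    one := one
    mul := mul
    one_mul := (hbij _ (h2 _ N h1 hs)).1 (show Φ (one ▷ N ≫ mul) = Φ (λ_ N).hom by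
      rw [hm, whiskerRight_fst, whiskerRight_snd, ho, _root_.one_mul, leftUnitor_hom])
    mul_one := (hbij _ (h2 N _ hs h1)).1 (show Φ (N ◁ one ≫ mul) = Φ (ρ_ N).hom by
      rw [hm, whiskerLeft_fst, whiskerLeft_snd, ho, _root_.mul_one, rightUnitor_hom])
    mul_assoc := (hbij _ (h2 _ N (h2 N N hs hs) hs)).1 (show Φ ((mul ▷ N) ≫ mul) = Φ ((α_ N N N).hom ≫ (N ◁ mul) ≫ mul) by
      rw [← Category.assoc (α_ N N N).hom, hm, hm, whiskerRight_fst, whiskerRight_snd, hm, Category.assoc,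
        whiskerLeft_fst, Category.assoc, whiskerLeft_snd, ← Category.assoc (α_ N N N).hom, hm, Category.assoc,
        Category.assoc, associator_hom_fst, associator_hom_snd_fst, associator_hom_snd_snd, _root_.mul_assoc])
    inv := inv
    left_inv := (hbij N hs).1 (show Φ (lift inv (𝟙 N) ≫ mul) = Φ (toUnit N ≫ one) by
      rw [hm, lift_fst, lift_snd, ho, ← Category.id_comp inv, hi, inv_mul_cancel])
    right_inv := (hbij N hs).1 (show Φ (lift (𝟙 N) inv ≫ mul) = Φ (toUnit N ≫ one) by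
      rw [hm, lift_fst, lift_snd, ho, ← Category.id_comp inv, hi, mul_inv_cancel]) }⟩

end Groth.Agent.Good38
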