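import Groth.Prelude.Def_Neron
import Groth.Agent.Rig93.Fibre
import Mathlib

/-! Global functions on a proper flat model of a geometrically connected variety. -/

set_option autoImplicit false
universe u

open CategoryTheory CategoryTheory.Limits AlgebraicGeometry

namespace Groth.Agent.Good38

theorem isIso_appTop_of_generic (R : Type u) [CommRing R] [IsDomain R] [IsDiscreteValuationRing R]
    (A : Over (Spec (CommRingCat.of (FractionRing R)))) [IsProper A.hom] [GeometricallyIntegral A.hom]
    (N : Over (Spec (CommRingCat.of R))) [IsProper N.hom] [Flat N.hom]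
    (e : (Neron.genericFibre R).obj N ≅ A) : IsIso N.hom.appTop := by
  let b := Neron.genPt R
  have hdom : IsDominant b := by
    constructor
    show DenseRange (PrimeSpectrum.comap (algebraMap R (FractionRing R)))
    exact PrimeSpectrum.denseRange_comap_iff_ker_le_nilRadical _ |>.mpr (by
      rw [(RingHom.injective_iff_ker_eq_bot _).mp (IsFractionRing.injective R (FractionRing R))]; exact bot_le)
  have : IsSchemeTheoreticallyDominant b := .of_isDominant _
  let g := pullback.fst N.hom b
  have hg : Function.Injective g.appTop := g.app_injective ⊤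
  let sK := pullback.snd N.hom b
  have : GeometricallyConnected A.hom := ⟨geometrically_iff_of_isClosedUnderIsomorphisms.mpr fun L _ y => by
    have : IsIntegral (pullback A.hom y) :=
      GeometricallyIntegral.geometrically_isIntegral _ _ _ (.of_hasPullback A.hom y)
    infer_instance⟩
  have hsK : Function.Bijective sK.appTop :=
    (Rig93.bijective_appTop_of_iso ((Over.forget _).mapIso e) sK A.hom (Over.w e.hom)).2
      (Rig93.bijective_appTop_of_geometrically A.hom)
  let ΓR := Scheme.ΓSpecIso (CommRingCat.of R)
  let ΓK := Scheme.ΓSpecIso (CommRingCat.of (FractionRing R))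
  let ψ : Γ(pullback N.hom b, ⊤) →+* FractionRing R :=
    ΓK.hom.hom.comp (RingEquiv.ofBijective sK.appTop.hom hsK).symm.toRingHom
  have hψinj : Function.Injective ψ :=
    (ConcreteCategory.bijective_of_isIso ΓK.hom).1.comp (RingEquiv.injective _)
  have hc : ∀ r, ψ (g.appTop (N.hom.appTop (ΓR.inv r))) = algebraMap R (FractionRing R) r := by
    intro r
    have h1 : g.appTop (N.hom.appTop (ΓR.inv r)) = sK.appTop (b.appTop (ΓR.inv r)) := by
      rw [← ConcreteCategory.comp_apply, ← Scheme.Hom.comp_appTop, pullback.condition, Scheme.Hom.comp_appTop,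
        ConcreteCategory.comp_apply]
    have h2 : ΓK.hom (b.appTop (ΓR.inv r)) = algebraMap R (FractionRing R) r := by
      show ((Spec.map (CommRingCat.ofHom (algebraMap R (FractionRing R)))).appTop ≫ ΓK.hom) (ΓR.inv r) = _
      rw [Scheme.ΓSpecIso_naturality]
      show algebraMap R (FractionRing R) (ΓR.hom (ΓR.inv r)) = _
      rw [Iso.inv_hom_id_apply]
    show ΓK.hom ((RingEquiv.ofBijective sK.appTop.hom hsK).symm _) = _
    rw [h1]
    rw [show (RingEquiv.ofBijective sK.appTop.hom hsK).symm (sK.appTop (b.appTop (ΓR.inv r))) = b.appTop (ΓR.inv r) from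
      (RingEquiv.ofBijective sK.appTop.hom hsK).symm_apply_apply _]
    exact h2
  refine (ConcreteCategory.isIso_iff_bijective _).2 ⟨fun s t hst => ?_, fun s => ?_⟩
  · have h := congrArg (fun z => ψ (g.appTop z)) hst
    rw [show s = ΓR.inv (ΓR.hom s) by rw [Iso.hom_inv_id_apply], show t = ΓR.inv (ΓR.hom t) by rw [Iso.hom_inv_id_apply]] at h ⊢
    simp only [hc] at h
    rw [IsFractionRing.injective R (FractionRing R) h]
  · let χ : R →+* Γ(N.left, ⊤) := N.hom.appTop.hom.comp ΓR.inv.hom
    have hint : χ.IsIntegral := RingHom.IsIntegral.trans ΓR.inv.hom N.hom.appTop.hom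
      (RingHom.isIntegral_of_surjective _ (ConcreteCategory.bijective_of_isIso ΓR.inv).2)
      (isIntegral_appTop_of_universallyClosed N.hom)
    obtain ⟨p, hp, hp0⟩ := hint s
    have hs : IsIntegral R (ψ (g.appTop s)) := by
      refine ⟨p, hp, ?_⟩
      have h := congrArg (ψ.comp g.appTop.hom) hp0
      rw [Polynomial.hom_eval₂, map_zero, show (ψ.comp g.appTop.hom).comp χ = algebraMap R (FractionRing R) from
        RingHom.ext hc] at h
      exact h
    obtain ⟨r, hr⟩ := IsIntegrallyClosed.isIntegral_iff.1 hs
    exact ⟨ΓR.inv r, hg (hψinj ((hc r).trans hr))⟩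

end Groth.Agent.Good38
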