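import Groth.Agent.Good38.GeomAlg
import Groth.Agent.NeronHD28.Torsion
import Groth.Agent.EGA73.ChowDense
import Groth.Agent.Approx60.Segre
import Groth.Agent.SchDense58.Basic
import Groth.Agent.Stein58.Connectedness
import Mathlib

/-! A smooth model with proper special fibre of a proper geometrically integral variety is proper. -/

set_option autoImplicit false
universe u

open CategoryTheory CategoryTheory.Limits AlgebraicGeometry

namespace Groth.Agent.Good38

variable {R K : Type u} [CommRing R] [IsDomain R] [IsDiscreteValuationRing R] [Field K]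
  [Algebra R K] [IsFractionRing R K]

theorem isDominant_genPt : IsDominant (Spec.map (CommRingCat.ofHom (algebraMap R K))) := by
  constructor
  show DenseRange (PrimeSpectrum.comap (algebraMap R K))
  exact PrimeSpectrum.denseRange_comap_iff_ker_le_nilRadical _ |>.mpr (by
    rw [(RingHom.injective_iff_ker_eq_bot _).mp (IsFractionRing.injective R K)]; exact bot_le)

theorem isProper_of_specialFibre {X : Scheme.{u}} (f : X ⟶ Spec (CommRingCat.of R))
    [Flat f] [IsSeparated f] [LocallyOfFiniteType f] [QuasiCompact f]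
    [GeometricallyIntegral (pullback.snd f (Spec.map (CommRingCat.ofHom (algebraMap R K))))]
    (hne : ∃ x, f x = IsLocalRing.closedPoint R)
    [IsProper (pullback.snd f (NeronHD28.closedPt R))] : IsProper f := by
  let S := Spec (CommRingCat.of R)
  let b := Spec.map (CommRingCat.ofHom (algebraMap R K))
  let q := NeronHD28.closedPt R
  have : IsClosedImmersion q := IsClosedImmersion.spec_of_surjective _ IsLocalRing.residue_surjective
  have := isDominant_genPt (R := R) (K := K)
  have : IsSchemeTheoreticallyDominant b := .of_isDominant _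
  have : IsIntegral (pullback f b) := GeometricallyIntegral.isIntegral_of_subsingleton (pullback.snd f b)
  have : IsReduced X := IsSchemeTheoreticallyDominant.isReduced (pullback.fst f b)
  have hjd : IsDominant (pullback.fst f b) := inferInstance
  have : IrreducibleSpace X := by
    have : Nonempty X := ⟨hne.choose⟩
    have h := ((IrreducibleSpace.isIrreducible_univ ↥(pullback f b)).image _
      (pullback.fst f b).continuous.continuousOn).closure
    rw [Set.image_univ, hjd.denseRange.closure_range] at h
    exact (irreducibleSpace_def _).2 h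
  have : IsIntegral X := isIntegral_of_irreducibleSpace_of_isReduced X
  have : IsLocallyNoetherian X := LocallyOfFiniteType.isLocallyNoetherian f
  have : CompactSpace X := QuasiCompact.compactSpace_of_compactSpace f
  have : IsNoetherian X := {}
  obtain ⟨n, X', π, J, hJ, hJf, hπ, hπs, U, hU, hUc, hiso, hsd⟩ :=
    EGA73.ChowDense.chow_dense_isCompact f
      (TopologicalSpace.NoetherianSpace.finite_irreducibleComponents (α := (X : Type u)))
  have hX'n : IsLocallyNoetherian X' := LocallyOfFiniteType.isLocallyNoetherian (π ≫ f)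
  have : CompactSpace X' := QuasiCompact.compactSpace_of_compactSpace (π ≫ f)
  have : IsNoetherian X' := {}
  have : IrreducibleSpace (U : Scheme.{u}) := by
    have : Nonempty (U : Scheme.{u}) := hU.nonempty.to_subtype
    have := isIntegral_of_isOpenImmersion U.ι
    infer_instance
  let eU : ((π ⁻¹ᵁ U : X'.Opens) : Scheme.{u}) ≅ (U : Scheme.{u}) := asIso (π ∣_ U)
  have : IsReduced ((π ⁻¹ᵁ U : X'.Opens) : Scheme.{u}) := isReduced_of_isOpenImmersion eU.hom
  have : QuasiCompact (π ⁻¹ᵁ U).ι := inferInstance
  have : IsReduced X' := IsSchemeTheoreticallyDominant.isReduced (π ⁻¹ᵁ U).ι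
  have : IrreducibleSpace X' := by
    have : Nonempty (U : Scheme.{u}) := hU.nonempty.to_subtype
    have : Nonempty X' := ⟨(π ⁻¹ᵁ U).ι (eU.inv (Classical.arbitrary _))⟩
    have hd : IsDominant (eU.inv ≫ (π ⁻¹ᵁ U).ι) := inferInstance
    have h := ((IrreducibleSpace.isIrreducible_univ ↥(U : Scheme.{u})).image _
      (eU.inv ≫ (π ⁻¹ᵁ U).ι).continuous.continuousOn).closure
    rw [Set.image_univ, hd.denseRange.closure_range] at h
    exact (irreducibleSpace_def _).2 h
  -- the closure in projective space
  have := Approx60.Segre.isProper_toBase n S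
  let Z := J.image
  let c := J.toImage
  let g : Z ⟶ S := J.imageι ≫ CohB1.ProjSpaceOver.toBase n S
  have hcg : c ≫ g = π ≫ f := by
    show J.toImage ≫ J.imageι ≫ _ = _
    rw [← Category.assoc, Scheme.Hom.toImage_imageι, hJf]
  have : IsProper g := inferInstance
  have : IsReduced Z := IsSchemeTheoreticallyDominant.isReduced c
  have hcd : IsDominant c := inferInstance
  have : IrreducibleSpace Z := by
    have : Nonempty Z := ⟨c (Classical.arbitrary _)⟩
    have h := ((IrreducibleSpace.isIrreducible_univ ↥X').image _ c.continuous.continuousOn).closure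
    rw [Set.image_univ, hcd.denseRange.closure_range] at h
    exact (irreducibleSpace_def _).2 h
  have : IsIntegral Z := isIntegral_of_irreducibleSpace_of_isReduced Z
  -- a dense affine open of the generic fibre lying over `U`
  obtain ⟨_, ⟨w, rfl⟩, hw⟩ : (Set.range (pullback.fst f b) ∩ U).Nonempty := by
    rw [Set.inter_comm]
    exact dense_iff_inter_open.1 hjd.denseRange _ U.2 hU.nonempty
  obtain ⟨V, hV, hwV, hVU⟩ := exists_isAffineOpen_mem_and_subset (U := pullback.fst f b ⁻¹ᵁ U) hw
  let v₀ : Spec Γ(pullback f b, V) ⟶ X := hV.fromSpec ≫ pullback.fst f b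
  have : Nonempty ↥(Spec Γ(pullback f b, V)) := ⟨hV.primeIdealOf ⟨w, hwV⟩⟩
  have hVd : IsDominant hV.fromSpec := ⟨by
    rw [DenseRange, hV.range_fromSpec]
    exact V.2.dense ⟨w, hwV⟩⟩
  have hv₀d : IsDominant v₀ := inferInstance
  have hv₀r : Set.range v₀ ⊆ Set.range U.ι := by
    rw [Scheme.Opens.range_ι]
    rintro _ ⟨p, rfl⟩
    exact hVU (show hV.fromSpec p ∈ (V : Set ↥(pullback f b)) from hV.range_fromSpec ▸ ⟨p, rfl⟩)
  let v₁ := IsOpenImmersion.lift U.ι v₀ hv₀r
  have hv₁d : IsDominant v₁ := ⟨fun p => by
    have h : U.ι p ∈ closure (U.ι '' Set.range v₁) := by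
      rw [← Set.range_comp, show ⇑U.ι ∘ ⇑v₁ = ⇑v₀ from by
        funext p; exact (Scheme.Hom.comp_apply v₁ U.ι p).symm.trans (by rw [IsOpenImmersion.lift_fac])]
      rw [hv₀d.denseRange.closure_range]; trivial
    rwa [U.ι.isEmbedding.closure_eq_preimage_closure_image]⟩
  have : IsDominant (π ⁻¹ᵁ U).ι := inferInstance
  let v : Spec Γ(pullback f b, V) ⟶ Z := v₁ ≫ eU.inv ≫ (π ⁻¹ᵁ U).ι ≫ c
  have : IsDominant v := inferInstance
  have : IsSchemeTheoreticallyDominant v := .of_isDominant _
  have hvg : v ≫ g = hV.fromSpec ≫ pullback.snd f b ≫ b := by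
    rw [← pullback.condition, ← Category.assoc hV.fromSpec]
    show _ = v₀ ≫ f
    rw [← IsOpenImmersion.lift_fac U.ι v₀ hv₀r]
    simp only [v, Category.assoc, hcg]
    rw [show eU.inv ≫ (π ⁻¹ᵁ U).ι ≫ π ≫ f = U.ι ≫ f from ?_]
    rw [Iso.inv_comp_eq, ← Category.assoc eU.hom]
    show _ = ((π ∣_ U) ≫ U.ι) ≫ f
    rw [morphismRestrict_ι, Category.assoc]
  let ΓR := Scheme.ΓSpecIso (CommRingCat.of R)
  let ΓV := Scheme.ΓSpecIso Γ(pullback f b, V)
  have hψ : Function.Injective (v.appTop ≫ ΓV.hom) := by
    have h1 : Function.Injective v.appTop := v.app_injective ⊤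
    exact (ConcreteCategory.bijective_of_isIso ΓV.hom).1.comp h1
  have : Nontrivial Γ(pullback f b, V) := PrimeSpectrum.nontrivial (hV.primeIdealOf ⟨w, hwV⟩)
  let χ : CommRingCat.of K ⟶ Γ(pullback f b, V) := Spec.preimage (hV.fromSpec ≫ pullback.snd f b)
  have hχ : Spec.map χ = hV.fromSpec ≫ pullback.snd f b := Spec.map_preimage _
  let φR : CommRingCat.of R ⟶ Γ(Z, ⊤) := ΓR.inv ≫ g.appTop
  have hc : φR ≫ v.appTop ≫ ΓV.hom = CommRingCat.ofHom (algebraMap R K) ≫ χ := by
    rw [Category.assoc, ← Category.assoc g.appTop, ← Scheme.Hom.comp_appTop, hvg, ← Category.assoc hV.fromSpec,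
      ← hχ, ← Spec.map_comp, Scheme.ΓSpecIso_naturality, Iso.inv_hom_id_assoc]
  have hc' : ∀ r, (v.appTop ≫ ΓV.hom) (φR r) = χ (algebraMap R K r) := fun r => congrArg (fun m => m.hom r) hc
  have hinjR : Function.Injective φR := fun r r' h => by
    have h1 := congrArg (v.appTop ≫ ΓV.hom) h
    rw [hc', hc'] at h1
    exact IsFractionRing.injective R K (χ.hom.injective h1)
  have hsurjR : Function.Surjective φR := fun s => by
    have hint : φR.hom.IsIntegral := RingHom.IsIntegral.trans ΓR.inv.hom g.appTop.hom
      (RingHom.isIntegral_of_surjective _ (ConcreteCategory.bijective_of_isIso ΓR.inv).2)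
      (isIntegral_appTop_of_universallyClosed g)
    obtain ⟨p, hp, hp0⟩ := hint s
    have h0 := congrArg (v.appTop ≫ ΓV.hom).hom hp0
    rw [Polynomial.hom_eval₂, map_zero, ← CommRingCat.hom_comp, hc] at h0
    have h0' : (p.map (algebraMap R K)).eval₂ χ.hom ((v.appTop ≫ ΓV.hom) s) = 0 := by
      rw [Polynomial.eval₂_map]; exact h0
    obtain ⟨t, ht⟩ := mem_range_of_isIntegral_appLE (pullback.snd f b) hV w hwV χ hχ _
      ⟨_, hp.map _, h0'⟩
    have htint : _root_.IsIntegral R t := ⟨p, hp, χ.hom.injective (by
      rw [Polynomial.hom_eval₂, map_zero, ht]; exact h0)⟩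
    obtain ⟨r, hr⟩ := IsIntegrallyClosed.isIntegral_iff.1 htint
    exact ⟨r, hψ ((hc' r).trans (hr ▸ ht))⟩
  have : IsIso g.appTop := (ConcreteCategory.isIso_iff_bijective _).2 <| by
    have h : (g.appTop : _ → _) = φR ∘ ΓR.hom := funext fun a => by
      show _ = g.appTop (ΓR.inv (ΓR.hom a))
      rw [Iso.hom_inv_id_apply]
    rw [h]
    exact Function.Bijective.comp ⟨hinjR, hsurjR⟩ (ConcreteCategory.bijective_of_isIso ΓR.hom)
  have := Stein58.geometricallyConnected_of_isIso_appTop g
  have hconn : ConnectedSpace ↥(pullback g q) :=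
    GeometricallyConnected.geometrically_connectedSpace _ _ _ (.of_hasPullback g q)
  -- the special fibre of `X'` fills that of `Z`
  let h : pullback (π ≫ f) q ⟶ pullback f q :=
    pullback.lift (pullback.fst _ _ ≫ π) (pullback.snd _ _) (by rw [Category.assoc]; exact pullback.condition)
  have : IsProper (h ≫ pullback.fst f q) := by
    rw [pullback.lift_fst]; infer_instance
  have : IsProper h := IsProper.of_comp h (pullback.fst f q)
  have : IsProper (pullback.snd (π ≫ f) q) := by
    rw [← pullback.lift_snd (pullback.fst (π ≫ f) q ≫ π) (pullback.snd _ _)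
      (by rw [Category.assoc]; exact pullback.condition)]
    exact inferInstanceAs (IsProper (h ≫ pullback.snd f q))
  let d : pullback (π ≫ f) q ⟶ pullback g q :=
    pullback.lift (pullback.fst _ _ ≫ c) (pullback.snd _ _) (by rw [Category.assoc, hcg]; exact pullback.condition)
  have : IsProper (d ≫ pullback.snd g q) := by rw [pullback.lift_snd]; infer_instance
  have : IsProper d := IsProper.of_comp d (pullback.snd g q)
  have hclopen : IsClopen (pullback.fst g q ⁻¹' Set.range c) := by
    refine ⟨?_, c.isOpenEmbedding.isOpen_range.preimage (pullback.fst g q).continuous⟩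
    have hrange : pullback.fst g q ⁻¹' Set.range c = Set.range d := by
      ext p
      constructor
      · rintro ⟨x, hx⟩
        have hxq : (π ≫ f) x ∈ Set.range q := by
          refine ⟨pullback.snd g q p, ?_⟩
          rw [← Scheme.Hom.comp_apply, ← pullback.condition, Scheme.Hom.comp_apply, ← hx, ← Scheme.Hom.comp_apply, hcg]
        obtain ⟨r, hr⟩ : x ∈ Set.range (pullback.fst (π ≫ f) q) := by
          rw [Scheme.Pullback.range_fst]; exact hxq
        refine ⟨r, (pullback.fst g q).isEmbedding.injective ?_⟩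
        rw [← Scheme.Hom.comp_apply, pullback.lift_fst, Scheme.Hom.comp_apply, hr, hx]
      · rintro ⟨r, rfl⟩
        refine ⟨pullback.fst (π ≫ f) q r, ?_⟩
        rw [← Scheme.Hom.comp_apply, ← Scheme.Hom.comp_apply, pullback.lift_fst]
    rw [hrange]
    exact d.isClosedMap.isClosed_range
  have hall : pullback.fst g q ⁻¹' Set.range c = Set.univ := by
    refine hclopen.eq_univ ?_
    obtain ⟨x, hx⟩ := hne
    obtain ⟨x', rfl⟩ := π.surjective x
    have hxq : g (c x') ∈ Set.range q := by
      refine ⟨IsLocalRing.closedPoint _, ?_⟩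
      rw [NeronHD28.closedPt_apply, ← Scheme.Hom.comp_apply, hcg, Scheme.Hom.comp_apply, hx]
    obtain ⟨r, hr⟩ : c x' ∈ Set.range (pullback.fst g q) := by
      rw [Scheme.Pullback.range_fst]; exact hxq
    exact ⟨r, x', hr.symm⟩
  have hcsurj : Function.Surjective c := fun z => by
    have hcl : IsClosed (g '' closure {z}) := g.isClosedMap _ isClosed_closure
    obtain ⟨z', hz', hgz'⟩ : IsLocalRing.closedPoint R ∈ g '' closure {z} :=
      (IsLocalRing.specializes_closedPoint (g z)).mem_closed hcl ⟨z, subset_closure rfl, rfl⟩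
    obtain ⟨r, rfl⟩ : z' ∈ Set.range (pullback.fst g q) := by
      rw [Scheme.Pullback.range_fst]
      exact ⟨IsLocalRing.closedPoint _, (NeronHD28.closedPt_apply _).trans hgz'.symm⟩
    exact (specializes_iff_mem_closure.2 hz').mem_open c.isOpenEmbedding.isOpen_range
      (hall.symm.le (Set.mem_univ r))
  have : Surjective c := ⟨hcsurj⟩
  have : IsIso c := (isIso_iff_isOpenImmersion_and_epi_base c).2 ⟨inferInstance, by
    rw [TopCat.epi_iff_surjective]; exact hcsurj⟩
  have : IsProper (π ≫ f) := by rw [← hcg]; infer_instance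
  have : UniversallyClosed f := UniversallyClosed.of_comp_surjective π f
  exact {}

end Groth.Agent.Good38
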