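import Groth.Agent.Good38.InertiaLift
import Groth.Agent.Good38.GalLift
import Groth.Agent.InertInv24.Etale
import Groth.Prelude.Def_SGA7IX
import Mathlib

/-! Inertia invariants of torsion points and specialisation to the Néron model. -/

set_option autoImplicit false
universe u

open CategoryTheory CategoryTheory.Limits AlgebraicGeometry
open scoped Pointwise

namespace Groth.Agent.Good38

variable {R K Ω : Type u} [CommRing R] [IsDomain R] [IsDiscreteValuationRing R] [HenselianLocalRing R]
  [Field K] [Algebra R K] [IsFractionRing R K] [Field Ω] [Algebra K Ω] [IsGalois K Ω] (W : ValuationSubring Ω)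

/-- An `Ω`-point specialising into the special fibre extends over `W`. -/
theorem exists_lift_of_specializes (hW : SGA7.LiesOver K R W) {X : Scheme.{u}}
    (f : X ⟶ Spec (CommRingCat.of R)) (yh : Spec (CommRingCat.of Ω) ⟶ X)
    (hyh : yh ≫ f = Spec.map (CommRingCat.ofHom ((algebraMap K Ω).comp (algebraMap R K))))
    (z : X) (hz : f.base z = IsLocalRing.closedPoint R) (h : yh.base (IsLocalRing.closedPoint Ω) ⤳ z) :
    ∃ g : Spec (CommRingCat.of W) ⟶ X,
      Spec.map (CommRingCat.ofHom (algebraMap W Ω)) ≫ g = yh ∧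
      g ≫ f = Spec.map (CommRingCat.ofHom (((algebraMap K Ω).comp (algebraMap R K)).codRestrict W.toSubring hW.1)) := by
  let ψ : X.presheaf.stalk z ⟶ CommRingCat.of Ω :=
    X.presheaf.stalkSpecializes h ≫ Scheme.stalkClosedPointTo yh
  have hψ : Spec.map ψ ≫ X.fromSpecStalk z = yh := by
    simp only [ψ, Spec.map_comp, Category.assoc, Scheme.SpecMap_stalkSpecializes_fromSpecStalk]
    exact Scheme.Spec_stalkClosedPointTo_fromSpecStalk yh
  let χ : CommRingCat.of R ⟶ X.presheaf.stalk z := Spec.preimage (X.fromSpecStalk z ≫ f)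
  have hχ : Spec.map χ = X.fromSpecStalk z ≫ f := Spec.map_preimage _
  have hc : χ ≫ ψ = CommRingCat.ofHom ((algebraMap K Ω).comp (algebraMap R K)) :=
    Spec.map_injective (by rw [Spec.map_comp, hχ, ← Category.assoc, hψ, hyh])
  have hloc : ∀ r ∈ IsLocalRing.maximalIdeal R, χ.hom r ∈ IsLocalRing.maximalIdeal (X.presheaf.stalk z) := by
    intro r hr
    have h1 : (Spec.map χ).base (IsLocalRing.closedPoint _) = IsLocalRing.closedPoint R := by
      rw [hχ, Scheme.Hom.comp_apply, Scheme.fromSpecStalk_closedPoint, hz]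
    have h2 : (IsLocalRing.maximalIdeal (X.presheaf.stalk z)).comap χ.hom = IsLocalRing.maximalIdeal R :=
      congrArg PrimeSpectrum.asIdeal h1
    rwa [← h2] at hr
  let φ : X.presheaf.stalk z →+* ψ.hom.range := ψ.hom.rangeRestrict
  let I : Ideal ψ.hom.range := (IsLocalRing.maximalIdeal (X.presheaf.stalk z)).map φ
  have hI : I ≠ ⊤ := by
    have : Nontrivial ψ.hom.range := inferInstance
    have : IsLocalRing ψ.hom.range := IsLocalRing.of_surjective' φ ψ.hom.rangeRestrict_surjective
    have : IsLocalHom φ := IsLocalHom.of_surjective φ ψ.hom.rangeRestrict_surjective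
    intro htop
    refine (IsLocalRing.maximalIdeal.isMaximal ψ.hom.range).ne_top (top_unique (htop ▸ ?_))
    exact Ideal.map_le_iff_le_comap.2 fun a ha => map_nonunit φ a ha
  obtain ⟨V, hV1, hV2⟩ := Ideal.image_subset_nonunits_valuationSubring I hI
  have hV : SGA7.LiesOver K R V := by
    refine ⟨fun r => hV1 ⟨χ.hom r, congrArg (fun q => q.hom r) hc⟩, fun r hr => ?_⟩
    refine V.mem_nonunits_iff.1 (hV2 ⟨φ (χ.hom r), Ideal.mem_map_of_mem _ (hloc r hr), ?_⟩)
    exact congrArg (fun q => q.hom r) hc
  letI : Algebra R Ω := ((algebraMap K Ω).comp (algebraMap R K)).toAlgebra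
  haveI : IsScalarTower R K Ω := IsScalarTower.of_algebraMap_eq' rfl
  have hVW : ∀ a, a ∈ V → a ∈ W := fun a ha => by
    rw [Mono38.mem_iff_isIntegral V hV] at ha
    rwa [Mono38.mem_iff_isIntegral W hW]
  let ψW : X.presheaf.stalk z →+* W := ψ.hom.codRestrict W.toSubring fun a => hVW _ (hV1 ⟨a, rfl⟩)
  refine ⟨Spec.map (CommRingCat.ofHom ψW) ≫ X.fromSpecStalk z, ?_, ?_⟩
  · rw [← Category.assoc, ← Spec.map_comp, ← hψ]
    rfl
  · rw [Category.assoc, ← hχ, ← Spec.map_comp]
    congr 1
    ext r
    exact congrArg (fun q => q.hom r) hc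

/-- The field of definition of a point fixed by inertia is contained in the inertia field. -/
theorem exists_etale_of_fixed (hW : SGA7.LiesOver K R W) (N : Over (Spec (CommRingCat.of R)))
    [LocallyOfFiniteType N.hom] (hN : SGA7.IsNeron R K N) (x : SGA7.Pts Ω ((SGA7.genFib R K).obj N))
    (hfix : ∀ σ : Ω ≃ₐ[K] Ω, SGA7.IsInertia W σ → SGA7.galAct σ x = x) :
    ∃ z ∈ SGA7.specialFibreSet R N,
      (x.left ≫ pullback.fst N.hom (Spec.map (CommRingCat.ofHom (algebraMap R K)))).base
        (IsLocalRing.closedPoint Ω) ⤳ z := by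
  letI : Algebra R Ω := ((algebraMap K Ω).comp (algebraMap R K)).toAlgebra
  haveI : IsScalarTower R K Ω := IsScalarTower.of_algebraMap_eq' rfl
  let b := Spec.map (CommRingCat.ofHom (algebraMap R K))
  let yh : Spec (CommRingCat.of Ω) ⟶ N.left := x.left ≫ pullback.fst N.hom b
  have hyh : yh ≫ N.hom = Spec.map (CommRingCat.ofHom (algebraMap R Ω)) := by
    have hw : x.left ≫ pullback.snd N.hom b = Spec.map (CommRingCat.ofHom (algebraMap K Ω)) := Over.w x
    simp only [yh, Category.assoc, pullback.condition]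
    rw [← Category.assoc, hw]
    simp only [b, ← Spec.map_comp, ← CommRingCat.ofHom_comp]
  -- an affine chart
  obtain ⟨U, hU, hpU, -⟩ := exists_isAffineOpen_mem_and_subset (X := N.left)
    (x := yh.base (IsLocalRing.closedPoint Ω)) (U := ⊤) trivial
  have hrange : Set.range yh.base ⊆ Set.range hU.fromSpec.base := by
    rintro _ ⟨c, rfl⟩
    rw [hU.range_fromSpec, show c = IsLocalRing.closedPoint Ω from Subsingleton.elim _ _]
    exact hpU
  let ψ : Γ(N.left, U) ⟶ CommRingCat.of Ω := Spec.preimage (IsOpenImmersion.lift hU.fromSpec yh hrange)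
  have hψ : Spec.map ψ ≫ hU.fromSpec = yh := by
    rw [Spec.map_preimage, IsOpenImmersion.lift_fac]
  let χ : CommRingCat.of R ⟶ Γ(N.left, U) := Spec.preimage (hU.fromSpec ≫ N.hom)
  have hχ : Spec.map χ = hU.fromSpec ≫ N.hom := Spec.map_preimage _
  have hc : χ ≫ ψ = CommRingCat.ofHom (algebraMap R Ω) :=
    Spec.map_injective (by rw [Spec.map_comp, hχ, ← Category.assoc, hψ, hyh])
  have hσψ : ∀ σ : Ω ≃ₐ[K] Ω, SGA7.IsInertia W σ → ∀ a, σ (ψ.hom a) = ψ.hom a := by
    intro σ hσ
    have h1 : Spec.map (CommRingCat.ofHom (σ : Ω →+* Ω)) ≫ yh = yh := by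
      have h2 := congrArg (fun m => CommaMorphism.left m ≫ pullback.fst N.hom b) (hfix σ hσ)
      simp only [SGA7.galAct, SGA7.specAut, Over.comp_left, Category.assoc] at h2
      exact h2
    rw [← hψ, ← Category.assoc, cancel_mono, ← Spec.map_comp] at h1
    exact fun a => congrArg (fun q => q.hom a) (Spec.map_injective h1)
  -- finitely many coordinates
  have hft : χ.hom.FiniteType := by
    have : LocallyOfFiniteType (Spec.map χ) := by rw [hχ]; infer_instance
    exact (HasRingHomProperty.Spec_iff (P := @LocallyOfFiniteType)).1 this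
  letI : Algebra R Γ(N.left, U) := χ.hom.toAlgebra
  obtain ⟨s, hs⟩ := (show Algebra.FiniteType R Γ(N.left, U) from hft).out
  classical
  let F : IntermediateField K Ω := IntermediateField.adjoin K (ψ.hom '' (s : Set Γ(N.left, U)))
  haveI : FiniteDimensional K F :=
    IntermediateField.finiteDimensional_adjoin fun a _ => Algebra.IsIntegral.isIntegral a
  let L : IntermediateField K Ω := IntermediateField.normalClosure K F Ω
  haveI : FiniteDimensional K L := normalClosure.is_finiteDimensional K F Ω
  haveI : Normal K L := normalClosure.normal K F Ω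
  haveI : IsGalois K L := ⟨⟩
  have hψL : ∀ a, ψ.hom a ∈ L := by
    intro a
    have ha : a ∈ Algebra.adjoin R (s : Set Γ(N.left, U)) := hs ▸ Algebra.mem_top
    induction ha using Algebra.adjoin_induction with
    | mem a ha => exact IntermediateField.le_normalClosure F (IntermediateField.subset_adjoin K _ ⟨a, ha, rfl⟩)
    | algebraMap r =>
      have h1 : ψ.hom (χ.hom r) = algebraMap K Ω (algebraMap R K r) := congrArg (fun q => q.hom r) hc
      rw [show algebraMap R Γ(N.left, U) r = χ.hom r from rfl, h1]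
      exact L.algebraMap_mem _
    | add a b _ _ ha hb => rw [map_add]; exact L.add_mem ha hb
    | mul a b _ _ ha hb => rw [map_mul]; exact L.mul_mem ha hb
  -- the inertia field
  haveI : IsScalarTower R L Ω := IsScalarTower.of_algebraMap_eq' rfl
  haveI : SMulCommClass (L ≃ₐ[K] L) R L := ⟨fun g r a => by
    show g (r • a) = r • g a
    rw [Algebra.smul_def, Algebra.smul_def, map_mul, IsScalarTower.algebraMap_apply R K L, AlgEquiv.commutes]⟩
  let B := integralClosure R L
  let iB : B →+* W := ((algebraMap L Ω).comp B.val.toRingHom).codRestrict W.toSubring fun a =>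
    Mono38.mem_of_isIntegral W hW (a.2.map (IsScalarTower.toAlgHom R L Ω))
  let m : Ideal B := (IsLocalRing.maximalIdeal W).comap iB
  have hm : ∀ a : B, a ∈ m ↔ W.valuation (((a : L) : Ω)) < 1 := fun a => by
    show iB a ∈ IsLocalRing.maximalIdeal W ↔ _
    rw [ValuationSubring.valuation_lt_one_iff]
    rfl
  haveI hmp : m.IsPrime := Ideal.IsPrime.comap iB
  have hmR : m.comap (algebraMap R B) = IsLocalRing.maximalIdeal R := by
    refine le_antisymm (IsLocalRing.le_maximalIdeal (Ideal.IsPrime.comap _).ne_top) fun r hr => ?_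
    rw [Ideal.mem_comap, hm]
    exact hW.2 r hr
  haveI : m.IsMaximal :=
    Ideal.isMaximal_of_isIntegral_of_isMaximal_comap m (hmR ▸ IsLocalRing.maximalIdeal.isMaximal R)
  let T : IntermediateField K L := IntermediateField.fixedField (m.inertia (L ≃ₐ[K] L))
  have hψT : ∀ a, (⟨ψ.hom a, hψL a⟩ : L) ∈ T := by
    intro a
    rw [IntermediateField.mem_fixedField_iff]
    intro τ hτ
    have hlift : ∀ w : L, τ.liftNormal Ω (w : Ω) = ((τ w : L) : Ω) := fun w => AlgEquiv.liftNormal_commutes τ Ω w
    obtain ⟨σ, hσ, hσL⟩ := exists_inertia_lift W hW L (τ.liftNormal Ω) fun z hz hzW => by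
      have hzi : IsIntegral R (⟨z, hz⟩ : L) :=
        (isIntegral_algHom_iff (IsScalarTower.toAlgHom R L Ω) (algebraMap L Ω).injective).1
          ((Mono38.mem_iff_isIntegral W hW z).1 hzW)
      have h1 := (hm _).1 (hτ (⟨⟨z, hz⟩, hzi⟩ : B))
      rw [hlift ⟨z, hz⟩]
      exact h1
    refine Subtype.ext ?_
    rw [← hlift, ← hσL _ (hψL a)]
    exact hσψ σ hσ a
  let B' := integralClosure R T
  haveI : IsScalarTower R T L := IsScalarTower.of_algebraMap_eq' rfl
  letI : Algebra B' B := ((IsScalarTower.toAlgHom R T L).mapIntegralClosure).toRingHom.toAlgebra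
  haveI : IsScalarTower R B' B := IsScalarTower.of_algebraMap_eq fun r => rfl
  haveI : IsScalarTower B' B L := IsScalarTower.of_algebraMap_eq fun r => rfl
  haveI : IsScalarTower B' T L := IsScalarTower.of_algebraMap_eq fun r => rfl
  obtain ⟨-, hetale⟩ := InertInv24.invariants_etale R K L B (fun _ _ => rfl) m T rfl B'
  haveI : Algebra.IsIntegral R B' := IsIntegralClosure.isIntegral_algebra R T
  haveI : IsDomain B' := inferInstance
  haveI : IsLocalRing B' := WE91.isLocalRing_of_isIntegral_of_isDomain R B'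
  set m' := m.comap (algebraMap B' B) with hm'
  have hm'max : m' = IsLocalRing.maximalIdeal B' := by
    refine IsLocalRing.eq_maximalIdeal (Ideal.isMaximal_of_isIntegral_of_isMaximal_comap (R := R) m' ?_)
    rw [hm', Ideal.comap_comap, ← IsScalarTower.algebraMap_eq, hmR]
    exact IsLocalRing.maximalIdeal.isMaximal R
  haveI : Algebra.Etale R B' := by
    haveI := hetale
    let e : B' ≃ₐ[B'] Localization.AtPrime m' := IsLocalization.atUnits B' m'.primeCompl fun a ha => by
      by_contra hu
      exact ha (show a ∈ m' by rw [hm'max]; exact hu)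
    exact Algebra.Etale.of_equiv (e.restrictScalars R).symm
  -- the smooth scheme `Spec B'`
  let Y : Over (Spec (CommRingCat.of R)) := Over.mk (Spec.map (CommRingCat.ofHom (algebraMap R B')))
  have hY : Smooth Y.hom := by
    have : Etale (Spec.map (CommRingCat.ofHom (algebraMap R B'))) :=
      (HasRingHomProperty.Spec_iff (P := @Etale)).2 (RingHom.etale_algebraMap.2 inferInstance)
    exact inferInstanceAs (Smooth (Spec.map (CommRingCat.ofHom (algebraMap R B'))))
  haveI : IsScalarTower R K T := inferInstance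
  haveI : IsScalarTower R B' T := inferInstance
  haveI : IsLocalization (Algebra.algebraMapSubmonoid B' (nonZeroDivisors R)) T :=
    IsIntegralClosure.isLocalization R K T B'
  have hpo : Algebra.IsPushout R B' K T := Algebra.isPushout_of_isLocalization (nonZeroDivisors R) K B' T
  have hpb := isPullback_SpecMap_of_isPushout _ _ _ _ (CommRingCat.isPushout_iff_isPushout.mpr hpo)
  let jT : Spec (CommRingCat.of T) ⟶ Spec (CommRingCat.of B') := Spec.map (CommRingCat.ofHom (algebraMap B' T))
  let iso : Spec (CommRingCat.of T) ≅ pullback Y.hom b := hpb.isoPullback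
  let ψT : Γ(N.left, U) →+* T :=
    ((ψ.hom.codRestrict L.toSubring hψL).codRestrict T.toSubring hψT)
  have hq : (Spec.map (CommRingCat.ofHom ψT) ≫ hU.fromSpec) ≫ N.hom =
      Spec.map (CommRingCat.ofHom (algebraMap K T)) ≫ b := by
    simp only [b, Category.assoc, ← hχ, ← Spec.map_comp, ← CommRingCat.ofHom_comp]
    congr 1
    ext r
    exact congrArg (fun q => q.hom r) hc
  let xT : Spec (CommRingCat.of T) ⟶ pullback N.hom b := pullback.lift _ _ hq
  let ym : (Over.pullback b).obj Y ⟶ (Over.pullback b).obj N := Over.homMk (iso.inv ≫ xT) (by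
    show (iso.inv ≫ xT) ≫ pullback.snd N.hom b = pullback.snd Y.hom b
    rw [Category.assoc, pullback.lift_snd]
    exact (Iso.inv_comp_eq _).2 hpb.isoPullback_hom_snd.symm)
  obtain ⟨gY, hgY⟩ := (hN.2.2.2 Y hY).2 ym
  have hgY' : pullback.fst Y.hom b ≫ gY.left = iso.inv ≫ Spec.map (CommRingCat.ofHom ψT) ≫ hU.fromSpec := by
    have h1 := congrArg (fun q => CommaMorphism.left q ≫ pullback.fst N.hom b) hgY
    simp only [ym, xT, Over.homMk_left, Category.assoc, pullback.lift_fst] at h1
    rw [← h1]
    exact (pullback.lift_fst _ _ _).symm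
  have hjT : jT ≫ gY.left = Spec.map (CommRingCat.ofHom ψT) ≫ hU.fromSpec := by
    have h1 : iso.hom ≫ pullback.fst Y.hom b = jT := hpb.isoPullback_hom_fst
    rw [← h1, Category.assoc, hgY', iso.hom_inv_id_assoc]
  let jΩ : Spec (CommRingCat.of Ω) ⟶ Spec (CommRingCat.of T) :=
    Spec.map (CommRingCat.ofHom ((algebraMap L Ω).comp (algebraMap T L)))
  have hyh' : jΩ ≫ jT ≫ gY.left = yh := by
    rw [hjT, ← Category.assoc, ← Spec.map_comp, ← hψ]
    rfl
  refine ⟨gY.left.base (IsLocalRing.closedPoint B'), ?_, ?_⟩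
  · show N.hom.base (gY.left.base (IsLocalRing.closedPoint B')) = IsLocalRing.closedPoint R
    rw [← Scheme.Hom.comp_apply, Over.w gY]
    haveI : IsLocalHom (algebraMap R B') := RingHom.IsIntegral.isLocalHom (algebraMap_isIntegral_iff.2 inferInstance)
      (FaithfulSMul.algebraMap_injective R B')
    exact IsLocalRing.comap_closedPoint (algebraMap R B')
  · show yh.base (IsLocalRing.closedPoint Ω) ⤳ _
    rw [← hyh', ← Category.assoc, Scheme.Hom.comp_apply]
    exact (IsLocalRing.specializes_closedPoint _).map gY.left.continuous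

end Groth.Agent.Good38
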